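/-
Base change of representations and fixed vectors supported on orbits of an independent family.
-/
import Cfsg.Agent.BG2.Rep3
import Cfsg.Agent.Perm.Module

set_option autoImplicit false
set_option linter.unusedSectionVars false

open Module Subgroup CF.BG CF.BG2
open scoped commutatorElement

namespace CF.RepX

theorem exists_baseChange {F E G : Type*} (K : Type*) [Field F] [Field K] [Algebra F K]
    [AddCommGroup E] [Module F E] [FiniteDimensional F E] [Group G] (ρ : G →* End F E) :
    ∃ σ : G →* End K (Fin (finrank F E) → K),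
      ∀ S : Set G, finrank K (fixSub σ S) = finrank F (fixSub ρ S) := by
  let b := Module.finBasis F E
  let f : G →* Matrix (Fin (finrank F E)) (Fin (finrank F E)) F :=
    (LinearMap.toMatrixAlgEquiv b).toAlgHom.toRingHom.toMonoidHom.comp ρ
  refine ⟨matRep K f, fun S => ?_⟩
  rw [finrank_fixSub_matRep, ← b.equivFun.finrank_map_eq]
  have h : ∀ g v, matRep F f g (b.equivFun v) = b.equivFun (ρ g v) := fun g v => by
    rw [matRep_apply]
    exact LinearMap.toMatrix_mulVec_repr b b (ρ g) v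
  suffices e : fixSub (matRep F f) S = Submodule.map (↑b.equivFun) (fixSub ρ S) by rw [e]
  ext w
  obtain ⟨v, rfl⟩ := b.equivFun.surjective w
  rw [Submodule.mem_map_equiv, LinearEquiv.symm_apply_apply, mem_fixSub, mem_fixSub]
  simp only [h, b.equivFun.injective.eq_iff]

section
variable {k V : Type*} [Field k] [AddCommGroup V] [Module k V] {ι : Type*} {W : ι → Submodule k V}

/-- the part of an independent family supported on `T` -/
abbrev Sp (W : ι → Submodule k V) (T : Set ι) : Submodule k V := ⨆ i ∈ T, W i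

theorem sp_induction {T : Set ι} {f : V →ₗ[k] V} {U : Submodule k V}
    (h : ∀ i ∈ T, ∀ v ∈ W i, f v ∈ U) {v : V} (hv : v ∈ Sp W T) : f v ∈ U :=
  (show Sp W T ≤ U.comap f from iSup₂_le h) hv

theorem mem_sp {T : Set ι} {i : ι} (hi : i ∈ T) {v : V} (hv : v ∈ W i) : v ∈ Sp W T :=
  le_iSup₂_of_le (f := fun i (_ : i ∈ T) => W i) i hi le_rfl hv

theorem sp_inter (h : iSupIndep W) {T T' : Set ι} {v : V} (a : v ∈ Sp W T) (b : v ∈ Sp W T') :
    v ∈ Sp W (T ∩ T') := by
  obtain ⟨e, -, e2, e3, e4⟩ := exists_proj h T'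
  rw [← e2 v b]
  refine sp_induction (fun i hi w hw => ?_) a
  by_cases c : i ∈ T'
  · rw [e3 i c w hw]; exact mem_sp (Set.mem_inter hi c) hw
  · rw [e4 i c w hw]; exact zero_mem _

theorem eq_zero_of_sp_empty {T : Set ι} (h : T = ∅) {v : V} (a : v ∈ Sp W T) : v = 0 := by
  simpa [h, Sp] using a

theorem sp_biInter (h : iSupIndep W) {α : Type*} {s : Set α} (hs : s.Finite) {T₀ : Set ι}
    {T : α → Set ι} {v : V} (a : v ∈ Sp W T₀) (b : ∀ x ∈ s, v ∈ Sp W (T x)) :
    v ∈ Sp W (T₀ ∩ ⋂ x ∈ s, T x) := by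
  induction s, hs using Set.Finite.induction_on with
  | empty => simpa using a
  | insert _ _ ih =>
    rw [Set.biInter_insert, Set.inter_left_comm]
    exact sp_inter h (b _ (Set.mem_insert _ _)) (ih fun x hx => b x (Set.mem_insert_of_mem _ hx))

theorem card_le_finrank [FiniteDimensional k V] (h : iSupIndep W) {α : Type*} [Fintype α]
    {T : α → Set ι} (d : ∀ a b, a ≠ b → T a ∩ T b = ∅) {U : Submodule k V}
    (e : ∀ a, ∃ v ∈ U, v ≠ 0 ∧ v ∈ Sp W (T a)) : Fintype.card α ≤ finrank k U := by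
  classical
  choose v vU v0 vT using e
  refine LinearIndependent.fintype_card_le_finrank (b := fun a => (⟨v a, vU a⟩ : U))
    (LinearIndependent.of_comp U.subtype (linearIndependent_iff'.2 fun s g hg a ha => ?_))
  obtain ⟨e, e1, e2, -, e4⟩ := exists_proj h (T a)
  have := congrArg e hg
  rw [map_sum, map_zero, Finset.sum_eq_single a] at this
  · simp only [Function.comp, Submodule.subtype_apply, map_smul, e2 _ (vT a)] at this
    exact (smul_eq_zero.1 this).resolve_right (v0 a)
  · intro b _ hb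
    simp only [Function.comp, Submodule.subtype_apply, map_smul]
    rw [(Submodule.mem_bot k).1 (sp_induction (f := e) (U := ⊥) (fun i hi w hw =>
      e4 i (fun c => Set.eq_empty_iff_forall_notMem.1 (d b a hb) i ⟨hi, c⟩) w hw) (vT b)), smul_zero]
  · exact fun h => absurd ha h

variable {G : Type*} [Group G] [MulAction G ι] {ρ : G →* End k V}

theorem apply_mem_sp (hW : ∀ (g : G) i, ∀ v ∈ W i, ρ g v ∈ W (g • i)) (g : G) {T T' : Set ι}
    (h : ∀ i ∈ T, g • i ∈ T') {v : V} (hv : v ∈ Sp W T) : ρ g v ∈ Sp W T' :=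
  sp_induction (fun i hi w hw => mem_sp (h i hi) (hW g i w hw)) hv

theorem exists_fix_orbit [Finite G] {p : ℕ} [Fact p.Prime] [CharP k p]
    (hW : ∀ (g : G) i, ∀ v ∈ W i, ρ g v ∈ W (g • i)) {P : Subgroup G} (hP : IsPGroup p P) {i : ι}
    (hi : W i ≠ ⊥) : ∃ v ∈ fixSub ρ P, v ≠ 0 ∧ v ∈ Sp W (MulAction.orbit P i) := by
  obtain ⟨v, a, b, c⟩ := CF.Perm.exists_fixed_vector hP (ρ.comp P.subtype)
    (Sp W (MulAction.orbit P i)) (fun g v hv => apply_mem_sp hW (g : G)
      (fun j hj => MulAction.mem_orbit_of_mem_orbit g hj) hv)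
    fun h => hi (eq_bot_iff.2 fun v hv => h ▸ mem_sp (MulAction.mem_orbit_self i) hv)
  exact ⟨v, fun g hg => c ⟨g, hg⟩, b, a⟩

end

end CF.RepX
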